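import Groth.Agent.ST49.Functor
import Mathlib.RingTheory.Localization.Away.Basic

/-!
# The torsor of class `1/π` does not extend across the node
-/

set_option autoImplicit false
set_option backward.isDefEq.respectTransparency false
set_option backward.isDefEq.respectTransparency.types false
set_option linter.unusedVariables false

universe u

open CategoryTheory CategoryTheory.Functor CategoryTheory.Limits MonoidalCategory CartesianMonoidalCategory MonObj
  AlgebraicGeometry Groth.Agent.QuotLib Groth.Agent.GrpSchLib Groth.Agent.FibBase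

namespace Groth.Agent.ST49

local notation "K₀" => Scheme.fppfPrecoverage

section General

variable {S : Scheme.{u}} {R : Type u} [CommRing R] {π : R}

/-- Morphisms of trivial objects. -/
noncomputable def atMap {T T' : Over (Spec (CommRingCat.of R))} (g : T ⟶ T') {x : T ⟶ ThetaS.STSch R π}
    {x' : T' ⟶ ThetaS.STSch R π} (hx : g ≫ x' = x) : at' x ⟶ at' x' :=
  trivHom (at' x') (g ≫ sec (ThetaS.Gm R) T') x ((Category.assoc _ _ _).trans (by rw [sec_φ, hx]))

theorem atMap_base {T T' : Over (Spec (CommRingCat.of R))} (g : T ⟶ T') {x : T ⟶ ThetaS.STSch R π}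
    {x' : T' ⟶ ThetaS.STSch R π} (hx : g ≫ x' = x) : (atMap g hx).base = g := by
  show (g ≫ sec (ThetaS.Gm R) T') ≫ snd (ThetaS.Gm R) T' = g
  rw [Category.assoc, sec, lift_snd, Category.comp_id]

theorem atMap_comp {T T' T'' : Over (Spec (CommRingCat.of R))} (g : T ⟶ T') (g' : T' ⟶ T'')
    {x : T ⟶ ThetaS.STSch R π} {x' : T' ⟶ ThetaS.STSch R π} {x'' : T'' ⟶ ThetaS.STSch R π}
    (hx : g ≫ x' = x) (hx' : g' ≫ x'' = x') :
    atMap g hx ≫ atMap g' hx' = atMap (g ≫ g') (by rw [Category.assoc, hx', hx]) := by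
  refine hom_ext_sec ?_
  show sec _ T ≫ (atMap g hx).top ≫ (atMap g' hx').top = sec _ T ≫ (atMap (g ≫ g') _).top
  rw [atMap, atMap, atMap, trivHom_sec, ← Category.assoc, trivHom_sec, Category.assoc, trivHom_sec]
  exact (Category.assoc _ _ _).symm

theorem stFn_pullback {C : Type u} [CommRing C] (gm : ThetaS.STRing R π →+* C) (q : ThetaS.STRing R π) :
    (Spec.map (CommRingCat.ofHom gm)).appTop (ThetaS.stFn q) = (Scheme.ΓSpecIso (CommRingCat.of C)).inv (gm q) :=
  (congrArg (fun ψ => (ConcreteCategory.hom ψ) q) (Scheme.ΓSpecIso_inv_naturality (CommRingCat.ofHom gm))).symm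

/-- The scalar of a morphism of trivial torsors of the additive group. -/
noncomputable def el {T T' : Over S} (k : triv K₀ (Red.Ga S) (AlgSt.trivAction (Red.Ga S)) (toUnit T) ⟶
    triv K₀ (Red.Ga S) (AlgSt.trivAction (Red.Ga S)) (toUnit T')) : Γ(T.left, ⊤) :=
  Red.gaFn (sec (Red.Ga S) T ≫ k.top ≫ fst (Red.Ga S) T')

set_option maxHeartbeats 800000 in
theorem el_psi_comp (h : Spec (CommRingCat.of R) ⟶ S) {A' A : (Ext49.sub (Half (π := π) h)).obj} (n : A' ⟶ A)
    {T : Over S} (k : triv K₀ (Red.Ga S) (AlgSt.trivAction (Red.Ga S)) (toUnit (base h A)) ⟶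
      triv K₀ (Red.Ga S) (AlgSt.trivAction (Red.Ga S)) (toUnit T)) :
    el (T := base h A') ((psi h).map n ≫ k) = coc h n + (baseMap h n).left.appTop (el k) := by
  have h1 : sec (Red.Ga S) (base h A') ≫ ((psi h).map n).top = lift (gPt h n) (baseMap h n) :=
    trivHom_sec (triv K₀ (Red.Ga S) (AlgSt.trivAction (Red.Ga S)) (toUnit (base h A)))
      (lift (gPt h n) (baseMap h n)) (toUnit _) (toUnit_unique _ _)
  have h2 : sec (Red.Ga S) (base h A') ≫ ((psi h).map n).top ≫ k.top ≫ fst (Red.Ga S) T =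
      gPt h n * (baseMap h n ≫ sec (Red.Ga S) (base h A) ≫ k.top ≫ fst (Red.Ga S) T) := by
    let kk : base h A ⟶ Red.Ga S ⊗ T := sec (Red.Ga S) (base h A) ≫ k.top
    have h3 : baseMap h n ≫ sec (Red.Ga S) (base h A) ≫ k.top ≫ fst (Red.Ga S) T =
        baseMap h n ≫ kk ≫ fst (Red.Ga S) T := congrArg (baseMap h n ≫ ·) (Category.assoc _ _ _).symm
    rw [h3, ← Category.assoc, h1, top_eq k, Category.assoc]
    show lift (gPt h n) (baseMap h n) ≫ (Red.Ga S ◁ kk) ≫ (AlgSt.leftMul (Red.Ga S) T).act ≫ fst _ T = _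
    generalize kk = m
    rw [AlgSt.leftMul, lift_fst, lift_whiskerLeft_assoc, comp_mul, lift_fst, lift_snd_assoc, Category.assoc]
  show Red.gaFn (sec (Red.Ga S) (base h A') ≫ (((psi h).map n).top ≫ k.top) ≫ fst (Red.Ga S) T) = _
  rw [Category.assoc, h2, GaPts.gaFn_mul, GaPts.gaFn_comp, GaPts.gaFn_ptOfFn]
  rfl

end General

variable (k : Type u) [Field k]

/-- The structure map of the test ring. -/
noncomputable abbrev hR : Spec (CommRingCat.of (RR k)) ⟶ Spec (CommRingCat.of k) :=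
  Spec.map (CommRingCat.ofHom (algebraMap k (RR k)))

set_option maxHeartbeats 2000000 in
theorem not_isSCompleteOver_BGa :
    ¬ ThetaS.IsSCompleteOver K₀ (AlgSt.BG K₀ (Red.Ga (Spec (CommRingCat.of k)))) := by
  intro hsc
  classical
  let S := Spec (CommRingCat.of k)
  let G := Red.Ga S
  let π : RR k := PowerSeries.X
  let h := hR k
  let HF := Half (S := S) (π := π) h
  obtain ⟨φ, θ, hθ⟩ := exists_phi (π := π) h
  have hg : FibCat.IsFibGrpd (AlgSt.BG K₀ G).p := (ArtinBoot49.isStack_quotSt).1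
  let sq : LiftSq.Sq (ThetaS.stIncl K₀ (RR k) π h) (FibCat.toSelf (AlgSt.BG K₀ G)) :=
    ⟨φ, FibCat.toSelf _, eqToIso ((AlgStLib.comp_toSelf _).trans (AlgStLib.comp_toSelf _).symm)⟩
  obtain ⟨⟨d⟩, -⟩ := hsc (RR k) π PowerSeries.X_prime.irreducible h sq
  let L := d.fn
  let e := d.isoTop
  -- the value at the universal point
  let X0 := ThetaS.STSch (RR k) π
  let Y : Over S := (Over.map h).obj X0
  let Ω : (ThetaS.ST K₀ (RR k) π h).obj := at' (𝟙 X0)
  let Q := L.obj Ω
  have hQ : (AlgSt.BG K₀ G).p.obj Q = Y := L.w_obj Ω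
  obtain ⟨Rs, hRs, hcov⟩ := IsoNatLib.bgChart_covers G Q
  obtain ⟨κ, V, v, hflat, -, hsurj, hvR⟩ :=
    AlgStLib.exists_fppf_of_mem_J ((AlgSp.J S).pullback_stable (eqToHom hQ.symm) hRs)
  have hker : (RingHom.ker (node k)).IsPrime := RingHom.ker_isPrime _
  let pnode : Y.left := (⟨RingHom.ker (node k), hker⟩ : PrimeSpectrum (AA k))
  obtain ⟨i, qv, hqv⟩ := hsurj pnode
  obtain ⟨U, hU, hqU, -⟩ := exists_isAffineOpen_mem_and_subset (x := qv) (U := (⊤ : (V i).left.Opens)) trivial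
  let B : Type u := Γ((V i).left, U)
  let j : Spec (CommRingCat.of B) ⟶ (V i).left := hU.fromSpec
  let f : Spec (CommRingCat.of B) ⟶ Spec (CommRingCat.of (AA k)) := j ≫ (v i).left
  letI : Algebra (AA k) B := (Spec.preimage f).hom.toAlgebra
  have hf : f = Spec.map (CommRingCat.ofHom (algebraMap (AA k) B)) := (Spec.map_preimage f).symm
  have hjop : IsOpenImmersion j := inferInstanceAs (IsOpenImmersion hU.fromSpec)
  have : Flat (v i).left := hflat i
  have hff : Flat f := inferInstanceAs (Flat (j ≫ (v i).left))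
  have : Module.Flat (AA k) B := by
    rw [hf] at hff
    exact RingHom.flat_algebraMap_iff.1 ((HasRingHomProperty.Spec_iff (P := @Flat)).1 hff)
  let qB : PrimeSpectrum B := hU.primeIdealOf ⟨qv, hqU⟩
  have hqB : f qB = pnode := by
    show (j ≫ (v i).left) qB = pnode
    rw [Scheme.Hom.comp_apply]
    show (v i).left (hU.fromSpec (hU.primeIdealOf ⟨qv, hqU⟩)) = pnode
    rw [hU.fromSpec_primeIdealOf]
    exact hqv
  have hqm : ∀ c : AA k, node k c = 0 → algebraMap (AA k) B c ∈ qB.asIdeal := fun c hc => by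
    have h1 : (Spec.map (CommRingCat.ofHom (algebraMap (AA k) B))) qB = pnode := by rw [← hf]; exact hqB
    have h2 := congrArg PrimeSpectrum.asIdeal h1
    have h3 : c ∈ PrimeSpectrum.asIdeal (pnode : PrimeSpectrum (AA k)) := RingHom.mem_ker.2 hc
    rw [← h2] at h3
    exact h3
  have nomem := not_mem_span_flat B qB.asIdeal qB.2.ne_top hqm
  -- the object over `B`
  let TB : Over (Spec (CommRingCat.of (RR k))) := Over.mk (f ≫ X0.hom)
  let xB : TB ⟶ X0 := Over.homMk f rfl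
  let ΩB : (ThetaS.ST K₀ (RR k) π h).obj := at' xB
  let mB : ΩB ⟶ Ω := atMap (x' := 𝟙 X0) xB (Category.comp_id _)
  let jS : (Over.map h).obj TB ⟶ V i := Over.homMk j (by
    show j ≫ (V i).hom = (f ≫ X0.hom) ≫ h
    rw [← Over.w (v i)]
    simp only [f, Category.assoc]
    rfl)
  let fm : (Over.map h).obj TB ⟶ (AlgSt.BG K₀ G).p.obj Q := (Over.map h).map xB ≫ eqToHom hQ.symm
  have hfm : Rs fm := by
    have e1 : fm = jS ≫ (v i ≫ eqToHom hQ.symm) := by
      rw [← Category.assoc]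
      exact congrArg (· ≫ eqToHom hQ.symm) (Over.OverMorphism.ext rfl)
    rw [e1]
    exact Rs.downward_closed (hvR i) jS
  obtain ⟨g0, h0, hh0⟩ := hcov fm hfm
  obtain rfl : g0 = toUnit _ := toUnit_unique _ _
  have hLB : (AlgSt.BG K₀ G).p.IsHomLift fm (L.map mB) :=
    IsHomLift.of_fac' _ fm (L.map mB) (L.w_obj ΩB) rfl (by
      rw [StkLib.w_map L]
      have e3 : (ThetaS.ST K₀ (RR k) π h).p.map mB = (Over.map h).map xB :=
        congrArg (Over.map h).map (atMap_base xB (Category.comp_id _))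
      rw [e3]
      simp [fm])
  obtain ⟨c, -, -⟩ := exists_iso_of_lifts (hp := hg) fm h0 (L.map mB)
  let trB := triv K₀ G (AlgSt.trivAction G) (toUnit ((Over.map h).obj TB))
  let cB : L.obj ΩB ⟶ trB := c.hom
  -- the comparison on pieces
  let ρ : ∀ A : (Ext49.sub HF).obj, (A.obj.obj ⟶ ΩB) → ((psi h).obj A ⟶ trB) := fun A m =>
    (θ A).inv ≫ e.inv.toNatTrans.app A.obj ≫ L.map m ≫ cB
  have hρ : ∀ (A' A : (Ext49.sub HF).obj) (n : A' ⟶ A) (m : A.obj.obj ⟶ ΩB),
      (psi h).map n ≫ ρ A m = ρ A' (n.hom.hom ≫ m) := fun A' A n m => by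
    have h1 : (psi h).map n ≫ (θ A).inv = (θ A').inv ≫ φ.map n.hom := by
      rw [Iso.comp_inv_eq, Category.assoc, hθ, Iso.inv_hom_id_assoc]
    have h2 : φ.map n.hom ≫ e.inv.toNatTrans.app A.obj = e.inv.toNatTrans.app A'.obj ≫ L.map n.hom.hom :=
      e.inv.toNatTrans.naturality n.hom
    simp only [ρ, ← Category.assoc]
    rw [h1, Category.assoc ((θ A').inv), h2]
    simp only [Category.assoc]
    rw [L.toFunctor.map_comp]
    simp only [Category.assoc]
  -- the localisations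
  let sB : B := algebraMap (AA k) B (s₀ k)
  let tB : B := algebraMap (AA k) B (t₀ k)
  let Bs := Localization.Away sB
  let Bt := Localization.Away tB
  let Bst := Localization.Away (sB * tB)
  have hu : IsUnit (algebraMap B Bst sB) ∧ IsUnit (algebraMap B Bst tB) :=
    IsUnit.mul_iff.1 ((map_mul (algebraMap B Bst) sB tB) ▸ IsLocalization.Away.algebraMap_isUnit (sB * tB))
  let βs : Bs →+* Bst := IsLocalization.Away.lift sB hu.1
  let βt : Bt →+* Bst := IsLocalization.Away.lift tB hu.2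
  have hβs : ∀ z, βs (algebraMap B Bs z) = algebraMap B Bst z := fun z => IsLocalization.Away.lift_eq sB hu.1 z
  have hβt : ∀ z, βt (algebraMap B Bt z) = algebraMap B Bst z := fun z => IsLocalization.Away.lift_eq tB hu.2 z
  let Ts : Over (Spec (CommRingCat.of (RR k))) := Over.mk (Spec.map (CommRingCat.ofHom (algebraMap B Bs)) ≫ TB.hom)
  let Tt : Over (Spec (CommRingCat.of (RR k))) := Over.mk (Spec.map (CommRingCat.ofHom (algebraMap B Bt)) ≫ TB.hom)
  let Tst : Over (Spec (CommRingCat.of (RR k))) :=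
    Over.mk (Spec.map (CommRingCat.ofHom (algebraMap B Bst)) ≫ TB.hom)
  let js : Ts ⟶ TB := Over.homMk (Spec.map (CommRingCat.ofHom (algebraMap B Bs))) rfl
  let jt : Tt ⟶ TB := Over.homMk (Spec.map (CommRingCat.ofHom (algebraMap B Bt))) rfl
  let gs : Tst ⟶ Ts := Over.homMk (Spec.map (CommRingCat.ofHom βs)) (by
    show _ ≫ Spec.map _ ≫ TB.hom = Spec.map _ ≫ TB.hom
    rw [← Category.assoc, ← Spec.map_comp]
    exact congrArg (fun gm => Spec.map (CommRingCat.ofHom gm) ≫ TB.hom) (RingHom.ext hβs))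
  let gt : Tst ⟶ Tt := Over.homMk (Spec.map (CommRingCat.ofHom βt)) (by
    show _ ≫ Spec.map _ ≫ TB.hom = Spec.map _ ≫ TB.hom
    rw [← Category.assoc, ← Spec.map_comp]
    exact congrArg (fun gm => Spec.map (CommRingCat.ofHom gm) ≫ TB.hom) (RingHom.ext hβt))
  have hgg : gs ≫ js = gt ≫ jt := Over.OverMorphism.ext (by
    show Spec.map _ ≫ Spec.map _ = Spec.map _ ≫ Spec.map _
    rw [← Spec.map_comp, ← Spec.map_comp]
    exact congrArg (fun gm => Spec.map (CommRingCat.ofHom gm))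
      (RingHom.ext fun z => (hβs z).trans (hβt z).symm))
  have hev : ∀ {C : Type u} [CommRing C] (gm : B →+* C) (q : AA k),
      (Spec.map (CommRingCat.ofHom gm) ≫ f).appTop (ThetaS.stFn q) =
        (Scheme.ΓSpecIso (CommRingCat.of C)).inv (gm (algebraMap (AA k) B q)) := by
    intro C _ gm q
    rw [hf, ← Spec.map_comp]
    exact stFn_pullback (gm.comp (algebraMap (AA k) B)) q
  have hinv : ∀ {C : Type u} [CommRing C] (z : C), IsUnit z → IsUnit ((Scheme.ΓSpecIso (CommRingCat.of C)).inv z) :=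
    fun z hz => hz.map (Scheme.ΓSpecIso _).inv.hom
  have hxs : IsUnit ((js ≫ xB).left.appTop (ThetaS.stFn (s₀ k))) := by
    show IsUnit ((Spec.map (CommRingCat.ofHom (algebraMap B Bs)) ≫ f).appTop (ThetaS.stFn (s₀ k)))
    rw [hev]
    exact hinv _ (IsLocalization.Away.algebraMap_isUnit sB)
  have hxt : IsUnit ((jt ≫ xB).left.appTop (ThetaS.stFn (t₀ k))) := by
    show IsUnit ((Spec.map (CommRingCat.ofHom (algebraMap B Bt)) ≫ f).appTop (ThetaS.stFn (t₀ k)))
    rw [hev]
    exact hinv _ (IsLocalization.Away.algebraMap_isUnit tB)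
  have hxst : IsUnit ((gs ≫ js ≫ xB).left.appTop (ThetaS.stFn (s₀ k))) := by
    rw [Over.comp_left, appTop_comp]
    exact hxs.map _
  let As : (Ext49.sub HF).obj :=
    ⟨⟨at' (js ≫ xB), (missesNode_at (js ≫ xB) true hxs).1⟩, (missesNode_at (js ≫ xB) true hxs).2⟩
  let At : (Ext49.sub HF).obj :=
    ⟨⟨at' (jt ≫ xB), (missesNode_at (jt ≫ xB) false hxt).1⟩, (missesNode_at (jt ≫ xB) false hxt).2⟩
  let Ast : (Ext49.sub HF).obj :=
    ⟨⟨at' (gs ≫ js ≫ xB), (missesNode_at (gs ≫ js ≫ xB) true hxst).1⟩,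
      (missesNode_at (gs ≫ js ≫ xB) true hxst).2⟩
  have hgt : gt ≫ jt ≫ xB = gs ≫ js ≫ xB := by rw [← Category.assoc, ← hgg, Category.assoc]
  let ns : Ast ⟶ As := ObjectProperty.homMk (ObjectProperty.homMk (atMap gs rfl))
  let nt : Ast ⟶ At := ObjectProperty.homMk (ObjectProperty.homMk (atMap gt hgt))
  let ms : As.obj.obj ⟶ ΩB := atMap js rfl
  let mt : At.obj.obj ⟶ ΩB := atMap jt rfl
  have hm : ns.hom.hom ≫ ms = nt.hom.hom ≫ mt := by
    show atMap gs (rfl : gs ≫ js ≫ xB = _) ≫ atMap js (rfl : js ≫ xB = _) =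
      atMap gt hgt ≫ atMap jt (rfl : jt ≫ xB = _)
    rw [atMap_comp, atMap_comp]
    refine hom_ext_sec ?_
    rw [atMap, atMap, trivHom_sec, trivHom_sec, hgg]
  have key : coc h ns + (baseMap h ns).left.appTop (el (ρ As ms)) =
      coc h nt + (baseMap h nt).left.appTop (el (ρ At mt)) := by
    rw [← el_psi_comp, ← el_psi_comp, hρ, hρ, hm]
  -- labels
  have hlAs : label h As = 0 := if_pos (fn_at_of_isUnit (js ≫ xB) true hxs)
  have hlAst : label h Ast = 0 := if_pos (fn_at_of_isUnit (gs ≫ js ≫ xB) true hxst)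
  have hlAt : label h At = 1 := if_neg (fun hs => by
    have h1 : IsUnit ((sec (ThetaS.Gm (RR k)) Tt).left.appTop (fn (at' (jt ≫ xB)) (s₀ k))) := hs.map _
    have h1' : IsUnit ((sec (ThetaS.Gm (RR k)) Tt ≫ (at' (jt ≫ xB)).φ).left.appTop (ThetaS.stFn (s₀ k))) := by
      rw [Over.comp_left, appTop_comp]
      exact h1
    rw [sec_φ] at h1'
    have h2 : IsUnit ((Spec.map (CommRingCat.ofHom (algebraMap B Bt)) ≫ f).appTop (ThetaS.stFn (s₀ k))) := h1'
    rw [hev] at h2
    have h3 : IsUnit (algebraMap B Bt sB) := by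
      have := h2.map (Scheme.ΓSpecIso (CommRingCat.of Bt)).hom.hom
      rwa [← CommRingCat.comp_apply, Iso.inv_hom_id] at this
    obtain ⟨z, hz⟩ := h3.exists_right_inv
    obtain ⟨a, ⟨⟨_, ⟨m, rfl⟩⟩, ha⟩⟩ := IsLocalization.exists_mk'_eq (Submonoid.powers tB) z
    rw [← ha, IsLocalization.mul_mk'_eq_mk'_of_mul, IsLocalization.mk'_eq_iff_eq_mul, _root_.one_mul] at hz
    obtain ⟨⟨_, ⟨l, rfl⟩⟩, hl⟩ := (IsLocalization.eq_iff_exists (Submonoid.powers tB) Bt).1 hz
    simp only at hl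
    refine nomem (l + m) (Ideal.mem_span_pair.2 ⟨a * tB ^ l, 0, ?_⟩)
    show a * tB ^ l * sB ^ (l + m + 1) + 0 * tB ^ (l + m + 1) = (sB * tB) ^ (l + m)
    linear_combination (sB ^ (l + m)) * hl)
  let vs : Bs := (Scheme.ΓSpecIso (CommRingCat.of Bs)).hom (el (ρ As ms))
  let vt : Bt := (Scheme.ΓSpecIso (CommRingCat.of Bt)).hom (el (ρ At mt))
  have hnat : ∀ {C D : Type u} [CommRing C] [CommRing D] (gm : C →+* D) (z : Γ(Spec (CommRingCat.of C), ⊤)),
      (Scheme.ΓSpecIso (CommRingCat.of D)).hom ((Spec.map (CommRingCat.ofHom gm)).appTop z) =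
        gm ((Scheme.ΓSpecIso (CommRingCat.of C)).hom z) := fun gm z =>
    congrArg (fun ψ => (ConcreteCategory.hom ψ) z) (Scheme.ΓSpecIso_naturality (CommRingCat.ofHom gm))
  let inv0 : Bst := (Scheme.ΓSpecIso (CommRingCat.of Bst)).hom (Ring.inverse (par π Tst) : Γ(Tst.left, ⊤))
  have keyB : βs vs + inv0 = βt vt := by
    have k1 : (baseMap h ns).left = Spec.map (CommRingCat.ofHom βs) :=
      congrArg CommaMorphism.left (atMap_base gs (rfl : gs ≫ js ≫ xB = _))
    have k2 : (baseMap h nt).left = Spec.map (CommRingCat.ofHom βt) :=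
      congrArg CommaMorphism.left (atMap_base gt hgt)
    have k3 := congrArg (Scheme.ΓSpecIso (CommRingCat.of Bst)).hom.hom key
    rw [k1, k2, coc, coc, hlAs, hlAst, hlAt, sub_self, zero_zsmul, zero_add, _root_.map_add] at k3
    have k4 : βs vs = (Scheme.ΓSpecIso (CommRingCat.of Bst)).hom.hom ((0 - 1 : ℤ) • (Ring.inverse (par π Tst) : Γ(Tst.left, ⊤))) + βt vt := by
      rw [← hnat βs, ← hnat βt]
      exact k3
    rw [_root_.map_zsmul, zero_sub, neg_smul, one_smul] at k4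
    rw [k4]
    show -inv0 + βt vt + inv0 = βt vt
    ring
  have hpar : inv0 * (algebraMap B Bst sB * algebraMap B Bst tB) = 1 := by
    have e1 : par π Tst = (Scheme.ΓSpecIso (CommRingCat.of Bst)).inv (algebraMap B Bst sB * algebraMap B Bst tB) := by
      show ((Spec.map (CommRingCat.ofHom (algebraMap B Bst)) ≫ f) ≫ X0.hom).appTop _ = _
      rw [appTop_comp]
      have e2 : X0.hom.appTop ((Scheme.ΓSpecIso (CommRingCat.of (RR k))).inv π) =
          ThetaS.stFn (s₀ k * t₀ k) := by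
        rw [st₀]
        exact (congrArg (fun ψ => (ConcreteCategory.hom ψ) π) (Scheme.ΓSpecIso_inv_naturality
          (CommRingCat.ofHom (algebraMap (RR k) (AA k))))).symm
      exact ((congrArg _ e2).trans (hev (algebraMap B Bst) (s₀ k * t₀ k))).trans
        (congrArg _ ((congrArg _ (map_mul (algebraMap (AA k) B) (s₀ k) (t₀ k))).trans (map_mul (algebraMap B Bst) _ _)))
    have hu' : IsUnit (par π Tst) := by rw [e1]; exact hinv _ (hu.1.mul hu.2)
    have e3 := congrArg (Scheme.ΓSpecIso (CommRingCat.of Bst)).hom.hom (Ring.inverse_mul_cancel (par π Tst) hu')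
    rw [map_mul, map_one] at e3
    convert e3 using 2
    rw [e1, ← CommRingCat.comp_apply, Iso.inv_hom_id]
    rfl
  -- clear denominators
  obtain ⟨⟨a0, ⟨_, ⟨n1, rfl⟩⟩⟩, ha0⟩ := IsLocalization.surj (Submonoid.powers sB) vs
  obtain ⟨⟨b0, ⟨_, ⟨n2, rfl⟩⟩⟩, hb0⟩ := IsLocalization.surj (Submonoid.powers tB) vt
  have ha1 := congrArg βs ha0
  have hb1 := congrArg βt hb0
  simp only [map_mul, hβs, hβt] at ha1 hb1
  have heq : algebraMap B Bst (a0 * sB * tB ^ (n2 + 1) + sB ^ n1 * tB ^ n2) =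
      algebraMap B Bst (b0 * sB ^ (n1 + 1) * tB) := by
    simp only [_root_.map_add, map_mul, map_pow] at ha1 hb1 ⊢
    linear_combination (-(algebraMap B Bst sB * algebraMap B Bst tB ^ (n2 + 1))) * ha1 +
      (algebraMap B Bst sB ^ (n1 + 1) * algebraMap B Bst tB) * hb1 +
      (algebraMap B Bst sB ^ (n1 + 1) * algebraMap B Bst tB ^ (n2 + 1)) * keyB -
      (algebraMap B Bst sB ^ n1 * algebraMap B Bst tB ^ n2) * hpar
  obtain ⟨⟨_, ⟨N, rfl⟩⟩, hN⟩ := (IsLocalization.eq_iff_exists (Submonoid.powers (sB * tB)) Bst).1 heq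
  simp only at hN
  refine nomem (N + n1 + n2) (Ideal.mem_span_pair.2 ⟨b0 * tB ^ (N + n1 + 1), -(a0 * sB ^ (N + n2 + 1)), ?_⟩)
  show b0 * tB ^ (N + n1 + 1) * sB ^ (N + n1 + n2 + 1) + -(a0 * sB ^ (N + n2 + 1)) * tB ^ (N + n1 + n2 + 1) =
    (sB * tB) ^ (N + n1 + n2)
  linear_combination (-(sB ^ n2 * tB ^ n1)) * hN

end Groth.Agent.ST49
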