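import Groth.Prelude.Def_GmAct
import Mathlib.RingTheory.PowerSeries.Inverse
import Mathlib.RingTheory.Flat.Basic
import Mathlib.Algebra.Polynomial.Laurent

/-!
# A class that survives flat base change on the curve `s t = X`
-/

set_option autoImplicit false
set_option linter.unusedVariables false

universe u

open scoped TensorProduct

namespace Groth.Agent.ST49

variable (k : Type u) [Field k]

/-- The base ring. -/
abbrev RR : Type u := PowerSeries k

/-- The coordinate ring of the curve. -/
abbrev AA : Type u := ThetaS.STRing (RR k) (PowerSeries.X : RR k)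

/-- `s`. -/
noncomputable abbrev s₀ : AA k := ThetaS.sFn (RR k) PowerSeries.X

/-- `t`. -/
noncomputable abbrev t₀ : AA k := ThetaS.tFn (RR k) PowerSeries.X

theorem st₀ : s₀ k * t₀ k = algebraMap (RR k) (AA k) PowerSeries.X := ThetaS.sFn_mul_tFn _ _

/-- The node. -/
noncomputable def node : AA k →+* k :=
  Ideal.Quotient.lift _ (MvPolynomial.eval₂Hom PowerSeries.constantCoeff fun _ => 0) (fun p hp => by
    obtain ⟨c, rfl⟩ := Ideal.mem_span_singleton'.mp hp
    simp)

theorem node_s : node k (s₀ k) = 0 := by simp [node, ThetaS.sFn]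

theorem node_t : node k (t₀ k) = 0 := by simp [node, ThetaS.tFn]

theorem node_C (r : RR k) : node k (algebraMap (RR k) (AA k) r) = PowerSeries.constantCoeff r := by
  change node k (Ideal.Quotient.mk _ (MvPolynomial.C r)) = _
  rw [node, Ideal.Quotient.lift_mk]
  simp

theorem ker_node_le : RingHom.ker (node k) ≤ Ideal.span {s₀ k, t₀ k} := by
  have key : ∀ c : AA k, c - algebraMap (RR k) (AA k) (PowerSeries.C (node k c)) ∈ Ideal.span {s₀ k, t₀ k} := by
    intro c
    obtain ⟨p, rfl⟩ := Ideal.Quotient.mk_surjective c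
    induction p using MvPolynomial.induction_on with
    | C r =>
      change algebraMap (RR k) (AA k) r - _ ∈ _
      rw [show (Ideal.Quotient.mk _ (MvPolynomial.C r) : AA k) = algebraMap (RR k) (AA k) r from rfl, node_C,
        ← map_sub]
      obtain ⟨q, hq⟩ := PowerSeries.X_dvd_iff.2 (show PowerSeries.constantCoeff
        (r - PowerSeries.C (PowerSeries.constantCoeff r)) = 0 by simp)
      rw [hq, map_mul, ← st₀, mul_assoc]
      exact Ideal.mul_mem_right _ _ (Ideal.subset_span (by simp))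
    | add p q hp hq =>
      rw [map_add, map_add, map_add, map_add, add_sub_add_comm]
      exact Ideal.add_mem _ hp hq
    | mul_X p i hp =>
      have hi : node k (Ideal.Quotient.mk _ (MvPolynomial.X i)) = 0 := by
        fin_cases i
        · exact node_s k
        · exact node_t k
      rw [map_mul, map_mul, hi, mul_zero, map_zero, map_zero, sub_zero]
      refine Ideal.mul_mem_left _ _ (Ideal.subset_span ?_)
      fin_cases i
      · exact Or.inl rfl
      · exact Or.inr rfl
  intro c hc
  have := key c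
  rwa [RingHom.mem_ker.1 hc, map_zero, map_zero, sub_zero] at this

/-- Coordinates in Laurent polynomials. -/
noncomputable def toLaurent : AA k →ₐ[RR k] LaurentPolynomial (RR k) :=
  ThetaS.stPt (LaurentPolynomial.T 1) (LaurentPolynomial.C PowerSeries.X * LaurentPolynomial.T (-1)) (by
    rw [mul_left_comm, ← LaurentPolynomial.T_add]
    simp)

theorem coeff_neg (c : AA k) (j : ℕ) :
    (PowerSeries.X : RR k) ^ j ∣ (toLaurent k c).coeff (-(j : ℤ)) := by
  obtain ⟨p, rfl⟩ := Ideal.Quotient.mk_surjective c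
  induction p using MvPolynomial.induction_on' with
  | add p q hp hq =>
    rw [map_add, map_add, AddMonoidAlgebra.coeff_add, Finsupp.add_apply]
    exact dvd_add hp hq
  | monomial m a =>
    have h : toLaurent k (Ideal.Quotient.mk _ (MvPolynomial.monomial m a)) =
        AddMonoidAlgebra.single ((m 0 : ℤ) - m 1) (a * PowerSeries.X ^ (m 1)) := by
      rw [toLaurent, ThetaS.stPt]
      change MvPolynomial.aeval _ (MvPolynomial.monomial m a) = _
      rw [MvPolynomial.aeval_monomial, Finsupp.prod_fintype _ _ (fun i => pow_zero _), Fin.prod_univ_two]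
      simp only [Matrix.cons_val_zero, Matrix.cons_val_one]
      rw [mul_pow, LaurentPolynomial.T_pow, LaurentPolynomial.T_pow, ← map_pow]
      rw [LaurentPolynomial.single_eq_C_mul_T, map_mul]
      rw [show (algebraMap (RR k) (LaurentPolynomial (RR k))) a = LaurentPolynomial.C a from rfl]
      rw [show (m 0 : ℤ) - m 1 = (m 0 : ℤ) * 1 + (m 1 : ℤ) * (-1) by ring, LaurentPolynomial.T_add]
      ring
    rw [h, AddMonoidAlgebra.coeff_single, Finsupp.single_apply]
    split_ifs with hj
    · exact Dvd.dvd.mul_left (pow_dvd_pow _ (by omega)) _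
    · exact dvd_zero _

theorem not_mem_span (n : ℕ) : (s₀ k * t₀ k) ^ n ∉ Ideal.span {s₀ k ^ (n + 1), t₀ k ^ (n + 1)} := by
  intro h
  obtain ⟨a, b, hab⟩ := Ideal.mem_span_pair.1 h
  have hs : toLaurent k (s₀ k) = LaurentPolynomial.T 1 := ThetaS.stPt_sFn _ _ _
  have ht : toLaurent k (t₀ k) = LaurentPolynomial.C PowerSeries.X * LaurentPolynomial.T (-1) :=
    ThetaS.stPt_tFn _ _ _
  have hc : toLaurent k (algebraMap (RR k) (AA k) (PowerSeries.X ^ n)) =
      AddMonoidAlgebra.single (0 : ℤ) ((PowerSeries.X : RR k) ^ n) := AlgHom.commutes _ _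
  have he : toLaurent k a * LaurentPolynomial.T (((n + 1 : ℕ) : ℤ) * 1) +
      toLaurent k b * (LaurentPolynomial.C ((PowerSeries.X : RR k) ^ (n + 1)) *
        LaurentPolynomial.T (((n + 1 : ℕ) : ℤ) * (-1))) =
      AddMonoidAlgebra.single (0 : ℤ) ((PowerSeries.X : RR k) ^ n) := by
    rw [← hc, map_pow (algebraMap (RR k) (AA k)), ← st₀, ← hab, map_add, map_mul, map_mul,
      map_pow (toLaurent k) (s₀ k), map_pow (toLaurent k) (t₀ k), hs, ht, mul_pow, ← map_pow,
      LaurentPolynomial.T_pow, LaurentPolynomial.T_pow]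
  have he := congrArg (fun c => AddMonoidAlgebra.coeff c (0 : ℤ)) he
  rw [AddMonoidAlgebra.coeff_add, Finsupp.add_apply, AddMonoidAlgebra.coeff_single,
    Finsupp.single_eq_same] at he
  have e1 : (toLaurent k a * LaurentPolynomial.T (((n + 1 : ℕ) : ℤ) * 1)).coeff 0 =
      (toLaurent k a).coeff (-((n + 1 : ℕ) : ℤ)) := by
    rw [LaurentPolynomial.T, AddMonoidAlgebra.coeff_mul_single_eq_coeff_mul (-((n + 1 : ℕ) : ℤ))
      (fun m' _ => ⟨fun h => by omega, fun h => by omega⟩), mul_one]
  have d1 : (PowerSeries.X : RR k) ^ (n + 1) ∣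
      (toLaurent k a * LaurentPolynomial.T (((n + 1 : ℕ) : ℤ) * 1)).coeff 0 := e1 ▸ coeff_neg k a (n + 1)
  have d2 : (PowerSeries.X : RR k) ^ (n + 1) ∣ (toLaurent k b * (LaurentPolynomial.C ((PowerSeries.X : RR k) ^ (n + 1)) *
      LaurentPolynomial.T (((n + 1 : ℕ) : ℤ) * (-1)))).coeff 0 := by
    rw [mul_left_comm, ← LaurentPolynomial.smul_eq_C_mul, AddMonoidAlgebra.coeff_smul, Finsupp.smul_apply, smul_eq_mul]
    exact dvd_mul_right _ _
  have := dvd_add d1 d2
  rw [he] at this
  exact absurd ((pow_dvd_pow_iff (PowerSeries.X_prime (R := k)).ne_zero (PowerSeries.X_prime (R := k)).not_isUnit).1 this)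
    (by omega)

variable {k}

omit [Field k] in
/-- Membership in an ideal with simple socle element is reflected by flat base change. -/
theorem not_mem_map_of_flat {A B : Type u} [CommRing A] [CommRing B] [Algebra A B] [Module.Flat A B]
    (m : Ideal A) (hm : m.IsMaximal) (I : Ideal A) (x : A) (hx : x ∉ I) (hmx : ∀ c ∈ m, c * x ∈ I)
    (q : Ideal B) (hq : q ≠ ⊤) (hqm : ∀ c ∈ m, algebraMap A B c ∈ q) :
    algebraMap A B x ∉ Ideal.map (algebraMap A B) I := by
  intro hxB
  let f : A →ₗ[A] A ⧸ I := LinearMap.toSpanSingleton A (A ⧸ I) (Ideal.Quotient.mk I x)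
  have hmf : m ≤ LinearMap.ker f := fun c hc => by
    show c • Ideal.Quotient.mk I x = 0
    change Ideal.Quotient.mk I (c * x) = 0
    exact Ideal.Quotient.eq_zero_iff_mem.2 (hmx c hc)
  have hker : LinearMap.ker f = m := by
    refine (hm.eq_of_le (fun htop => hx ?_) hmf).symm
    have h1 : (1 : A) ∈ LinearMap.ker f := by rw [htop]; trivial
    rw [LinearMap.mem_ker, LinearMap.toSpanSingleton_apply, one_smul] at h1
    exact Ideal.Quotient.eq_zero_iff_mem.1 h1
  let g : (A ⧸ m) →ₗ[A] A ⧸ I := Submodule.liftQ m f hmf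
  have hg : Function.Injective g := by
    rw [← LinearMap.ker_eq_bot]
    exact Submodule.ker_liftQ_eq_bot _ _ _ hker.le
  have hB := Module.Flat.lTensor_preserves_injective_linearMap (R := A) (M := B) g hg
  have hzero : ∀ v : B, v ∈ Ideal.map (algebraMap A B) I → v ⊗ₜ[A] (Ideal.Quotient.mk I (1 : A)) = 0 := by
    intro v hv
    induction hv using Submodule.span_induction with
    | mem v hv =>
      obtain ⟨c, hc, rfl⟩ := hv
      rw [Algebra.algebraMap_eq_smul_one, TensorProduct.smul_tmul]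
      change (1 : B) ⊗ₜ[A] Ideal.Quotient.mk I (c * 1) = 0
      rw [mul_one, Ideal.Quotient.eq_zero_iff_mem.2 hc, TensorProduct.tmul_zero]
    | zero => exact TensorProduct.zero_tmul _ _
    | add v w _ _ hv hw => rw [TensorProduct.add_tmul, hv, hw, add_zero]
    | smul b v _ hv =>
      have := congrArg (LinearMap.rTensor (A ⧸ I) (LinearMap.lsmul B B b |>.restrictScalars A)) hv
      rw [LinearMap.rTensor_tmul, map_zero] at this
      exact this
  have h1 : LinearMap.lTensor B g ((1 : B) ⊗ₜ[A] Submodule.Quotient.mk (1 : A)) = LinearMap.lTensor B g 0 := by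
    rw [map_zero, LinearMap.lTensor_tmul]
    change (1 : B) ⊗ₜ[A] ((1 : A) • Ideal.Quotient.mk I x) = 0
    rw [one_smul, ← hzero _ hxB, Algebra.algebraMap_eq_smul_one, TensorProduct.smul_tmul]
    congr 1
    change Ideal.Quotient.mk I x = Ideal.Quotient.mk I (x * 1)
    rw [mul_one]
  have h2 : (1 : B) ⊗ₜ[A] (Ideal.Quotient.mk m (1 : A)) = 0 := hB h1
  let ev : B ⊗[A] (A ⧸ m) →ₐ[A] B ⧸ q :=
    Algebra.TensorProduct.lift ((Ideal.Quotient.mkₐ A q))
      (Ideal.Quotient.liftₐ m (Algebra.ofId A (B ⧸ q)) fun c hc =>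
        Ideal.Quotient.eq_zero_iff_mem.2 (hqm c hc)) fun _ _ => Commute.all _ _
  have h3 := congrArg ev h2
  rw [map_zero] at h3
  simp [ev] at h3
  exact hq ((Ideal.eq_top_iff_one q).2 (Ideal.Quotient.eq_zero_iff_mem.1 (by simpa using h3)))

theorem not_mem_span_flat (B : Type u) [CommRing B] [Algebra (AA k) B] [Module.Flat (AA k) B] (q : Ideal B)
    (hq : q ≠ ⊤) (hqm : ∀ c : AA k, node k c = 0 → algebraMap (AA k) B c ∈ q) (n : ℕ) :
    (algebraMap (AA k) B (s₀ k) * algebraMap (AA k) B (t₀ k)) ^ n ∉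
      Ideal.span {algebraMap (AA k) B (s₀ k) ^ (n + 1), algebraMap (AA k) B (t₀ k) ^ (n + 1)} := by
  intro hx
  let I : Ideal (AA k) := Ideal.span {s₀ k ^ (n + 1), t₀ k ^ (n + 1)}
  let x : AA k := (s₀ k * t₀ k) ^ n
  have hsurj : Function.Surjective (node k) := fun c =>
    ⟨algebraMap (RR k) (AA k) (PowerSeries.C c), by rw [node_C]; simp⟩
  refine not_mem_map_of_flat (RingHom.ker (node k)) (RingHom.ker_isMaximal_of_surjective (node k) hsurj) I x
    (not_mem_span k n) (fun c hc => ?_) q hq (fun c hc => hqm c hc) ?_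
  · obtain ⟨a, b, rfl⟩ := Ideal.mem_span_pair.1 (ker_node_le k hc)
    rw [show (a * s₀ k + b * t₀ k) * x = (a * t₀ k ^ n) * s₀ k ^ (n + 1) + (b * s₀ k ^ n) * t₀ k ^ (n + 1) by
      simp only [x]; ring]
    exact Ideal.mem_span_pair.2 ⟨_, _, rfl⟩
  · simp only [I, Ideal.map_span, Set.image_pair, x, map_pow, map_mul]
    exact hx

end Groth.Agent.ST49
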