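import Groth.Prelude.Def_ThetaS
import Groth.Agent.Ext49.BGEquiv
import Groth.Agent.ST49.Alg
import Groth.Agent.GrpSchLib.GaPts
import Groth.Agent.AlgStLib.Substack
import Groth.Agent.AlgStLib.FppfSite
import Groth.Agent.QuotLib.Descend
import Groth.Agent.FibBase.Comp
import Mathlib.Algebra.Polynomial.Laurent
import Mathlib.RingTheory.Localization.Away.AdjoinRoot

/-!
# The additive torsor of class `1/π` on the punctured curve stack
-/

set_option autoImplicit false
set_option backward.isDefEq.respectTransparency false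
set_option backward.isDefEq.respectTransparency.types false
set_option linter.unusedVariables false

universe u

open CategoryTheory CategoryTheory.Functor CategoryTheory.Limits MonoidalCategory CartesianMonoidalCategory MonObj
  AlgebraicGeometry Groth.Agent.QuotLib Groth.Agent.GrpSchLib

namespace Groth.Agent.ST49

variable {S : Scheme.{u}} {R : Type u} [CommRing R] {π : R} (h : Spec (CommRingCat.of R) ⟶ S)

local notation "K₀" => Scheme.fppfPrecoverage

/-- The pullback of a function on the curve to the torsor. -/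
noncomputable abbrev fn (A : (ThetaS.STR K₀ R π).obj) (q : ThetaS.STRing R π) : Γ(A.P.left, ⊤) :=
  A.φ.left.appTop (ThetaS.stFn q)

/-- The parameter on a test scheme. -/
noncomputable abbrev par (π : R) (T : Over (Spec (CommRingCat.of R))) : Γ(T.left, ⊤) :=
  T.hom.appTop ((Scheme.ΓSpecIso (CommRingCat.of R)).inv π)

theorem appTop_comp {X Y Z : Scheme.{u}} (f : X ⟶ Y) (g : Y ⟶ Z) (v : Γ(Z, ⊤)) :
    (f ≫ g).appTop v = f.appTop (g.appTop v) := by simp

theorem fn_map {A' A : (ThetaS.STR K₀ R π).obj} (n : A' ⟶ A) (q : ThetaS.STRing R π) :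
    fn A' q = n.top.left.appTop (fn A q) := by
  rw [fn, fn, ← appTop_comp, ← Over.comp_left, n.wφ]

theorem par_map {T' T : Over (Spec (CommRingCat.of R))} (f : T' ⟶ T) : par π T' = f.left.appTop (par π T) := by
  rw [par, par, ← appTop_comp, Over.w f]

theorem STSch_hom : (ThetaS.STSch R π).hom =
    Spec.map (CommRingCat.ofHom (algebraMap R (ThetaS.STRing R π))) := rfl

theorem fn_mul (A : (ThetaS.STR K₀ R π).obj) :
    fn A (ThetaS.sFn R π) * fn A (ThetaS.tFn R π) = A.π.left.appTop (par π A.base) := by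
  refine (map_mul A.φ.left.appTop.hom _ _).symm.trans ?_
  refine (congrArg A.φ.left.appTop.hom (map_mul (Scheme.ΓSpecIso (CommRingCat.of (ThetaS.STRing R π))).inv.hom _ _).symm).trans ?_
  rw [ThetaS.sFn_mul_tFn, par, ← appTop_comp, Over.w A.π, ← Over.w A.φ, appTop_comp]
  congr 1
  exact congrArg (fun ψ => (ConcreteCategory.hom ψ) π) (Scheme.ΓSpecIso_inv_naturality
    (CommRingCat.ofHom (algebraMap R (ThetaS.STRing R π))))

theorem isUnit_of_surjective {X Y : Scheme.{u}} (f : X ⟶ Y) [Surjective f] (v : Γ(Y, ⊤))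
    (hv : IsUnit (f.appTop v)) : IsUnit v := by
  refine RingedSpace.isUnit_of_isUnit_germ Y.toLocallyRingedSpace.toRingedSpace ⊤ v fun y _ => ?_
  obtain ⟨x, rfl⟩ := f.surjective y
  rw [← Scheme.mem_basicOpen_top]
  show x ∈ f ⁻¹ᵁ Y.basicOpen v
  rw [Scheme.preimage_basicOpen_top, Scheme.basicOpen_of_isUnit _ hv]
  trivial

theorem surjective_π {X : Over (Spec (CommRingCat.of R))} {G : Over (Spec (CommRingCat.of R))} [GrpObj G]
    {aX : AlgGrp.Action G X} (A : AlgSt.QuotObj K₀ G aX) : Surjective A.π.left := ⟨fun x => by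
  obtain ⟨Rv, hR, hsec⟩ := A.loc
  obtain ⟨Y, g, ⟨hg⟩, hx⟩ := hR.1 x
  obtain ⟨w, rfl⟩ := hx
  obtain ⟨s, hs⟩ := hsec _ hg
  exact ⟨s w, (Scheme.Hom.comp_apply s A.π.left w).symm.trans (congrArg (fun k => k w) hs)⟩⟩

/-- One of the two coordinates is invertible. -/
abbrev Half : ObjectProperty (ThetaS.stPunc K₀ R π h).obj :=
  fun A => IsUnit (fn A.obj (ThetaS.sFn R π)) ∨ IsUnit (fn A.obj (ThetaS.tFn R π))

open Classical in
/-- The label of a piece. -/
noncomputable def label (A : (Ext49.sub (Half (π := π) h)).obj) : ℤ :=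
  if IsUnit (fn A.obj.obj (ThetaS.sFn R π)) then 0 else 1

/-- The base of an object over `S`. -/
noncomputable abbrev base (A : (Ext49.sub (Half (π := π) h)).obj) : Over S := (Over.map h).obj A.obj.obj.base

/-- The base map of a morphism over `S`. -/
noncomputable abbrev baseMap {A' A : (Ext49.sub (Half (π := π) h)).obj} (n : A' ⟶ A) : base h A' ⟶ base h A :=
  (Over.map h).map n.hom.hom.base

/-- The cocycle. -/
noncomputable def coc {A' A : (Ext49.sub (Half (π := π) h)).obj} (n : A' ⟶ A) : Γ((base h A').left, ⊤) :=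
  (label h A' - label h A) • Ring.inverse (par π A'.obj.obj.base)

theorem isUnit_par_of_ne {A' A : (Ext49.sub (Half (π := π) h)).obj} (n : A' ⟶ A) (hne : label h A' ≠ label h A) :
    IsUnit (par π A'.obj.obj.base) := by
  classical
  have := surjective_π A'.obj.obj
  refine isUnit_of_surjective A'.obj.obj.π.left _ ?_
  rw [← fn_mul]
  by_cases h1 : IsUnit (fn A.obj.obj (ThetaS.sFn R π))
  · exact absurd (by rw [label, label, if_pos h1, if_pos (by rw [fn_map n.hom.hom]; exact h1.map _)]) hne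
  · refine IsUnit.mul ?_ (by rw [fn_map n.hom.hom]; exact (A.property.resolve_left h1).map _)
    by_contra h2
    exact hne (by rw [label, label, if_neg h1, if_neg h2])

theorem coc_comp {A'' A' A : (Ext49.sub (Half (π := π) h)).obj} (m : A'' ⟶ A') (n : A' ⟶ A) :
    coc h (m ≫ n) = coc h m + (baseMap h m).left.appTop (coc h n) := by
  show (label h A'' - label h A) • Ring.inverse (par π A''.obj.obj.base) = _
  rw [coc, coc, _root_.map_zsmul]
  by_cases hne : label h A' = label h A
  · simp [hne]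
  · have hu := isUnit_par_of_ne h n hne
    have hinv : (baseMap h m).left.appTop (Ring.inverse (par π A'.obj.obj.base)) =
        Ring.inverse (par π A''.obj.obj.base) := by
      have e := par_map (π := π) m.hom.hom.base
      obtain ⟨w, hw⟩ := hu
      rw [e, ← hw, Ring.inverse_unit]
      show m.hom.hom.base.left.appTop _ = _
      rw [← MonoidHom.coe_coe, ← Units.coe_map, ← Units.coe_map, Ring.inverse_unit]
      rfl
    rw [hinv, ← add_smul]
    congr 1
    ring

/-- Functions as points of the additive group. -/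
noncomputable abbrev gPt {A' A : (Ext49.sub (Half (π := π) h)).obj} (n : A' ⟶ A) : base h A' ⟶ Red.Ga S :=
  GaPts.ptOfFn (coc h n)

/-- The functor on pieces. -/
noncomputable def psi₀ : (Ext49.sub (Half (π := π) h)).obj ⥤ (AlgSt.BG K₀ (Red.Ga S)).obj where
  obj A := triv K₀ (Red.Ga S) (AlgSt.trivAction (Red.Ga S)) (toUnit (base h A))
  map {A' A} n := trivHom (triv K₀ (Red.Ga S) (AlgSt.trivAction (Red.Ga S)) (toUnit (base h A))) (lift (gPt h n) (baseMap h n)) _ (toUnit_unique _ _)
  map_id A := by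
    refine hom_ext_sec ?_
    rw [trivHom_sec]
    show _ = sec (Red.Ga S) _ ≫ 𝟙 _
    rw [Category.comp_id]
    show lift (gPt h (𝟙 A)) (baseMap h (𝟙 A)) = lift (1 : base h A ⟶ Red.Ga S) (𝟙 (base h A))
    apply CartesianMonoidalCategory.hom_ext
    · rw [lift_fst, lift_fst]
      apply GaPts.gaFn_injective
      show Red.gaFn (GaPts.ptOfFn (coc h (𝟙 A))) = Red.gaFn _
      rw [GaPts.gaFn_ptOfFn, GaPts.gaFn_one]
      simp [coc]
    · rw [lift_snd, lift_snd]
      exact (Over.map h).map_id _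
  map_comp {A'' A' A} m n := by
    refine hom_ext_sec ?_
    rw [trivHom_sec]
    show _ = sec (Red.Ga S) _ ≫ (trivHom (triv K₀ (Red.Ga S) (AlgSt.trivAction (Red.Ga S)) (toUnit (base h A'))) (lift (gPt h m) (baseMap h m)) (toUnit _) (toUnit_unique _ _)).top ≫
      (trivHom (triv K₀ (Red.Ga S) (AlgSt.trivAction (Red.Ga S)) (toUnit (base h A))) (lift (gPt h n) (baseMap h n)) (toUnit _) (toUnit_unique _ _)).top
    rw [← Category.assoc, trivHom_sec]
    show _ = lift (gPt h m) (baseMap h m) ≫ (Red.Ga S ◁ lift (gPt h n) (baseMap h n)) ≫ (AlgSt.leftMul _ _).act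
    rw [whisker_lift_leftMul, comp_lift, comp_mul, lift_fst, lift_snd_assoc, lift_snd_assoc]
    congr 1
    · apply GaPts.gaFn_injective
      show Red.gaFn (GaPts.ptOfFn (coc h (m ≫ n))) = Red.gaFn _
      rw [GaPts.gaFn_ptOfFn, GaPts.gaFn_mul, GaPts.gaFn_comp, GaPts.gaFn_ptOfFn, GaPts.gaFn_ptOfFn, coc_comp]

/-- The functor on pieces over `S`. -/
noncomputable def psi : Ext49.sub (Half (π := π) h) ⥤ᵇ AlgSt.BG K₀ (Red.Ga S) where
  toFunctor := psi₀ h
  w := CategoryTheory.Functor.ext (fun A => rfl) fun A' A n => by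
    rw [eqToHom_refl, eqToHom_refl, Category.comp_id, Category.id_comp]
    exact lift_snd _ _

/-! ### Trivial objects -/

/-- The trivial object at a point. -/
noncomputable abbrev at' {T : Over (Spec (CommRingCat.of R))} (x : T ⟶ ThetaS.STSch R π) : (ThetaS.STR K₀ R π).obj :=
  triv K₀ (ThetaS.Gm R) (ThetaS.stAction R π) x

theorem fn_at_of_isUnit {T : Over (Spec (CommRingCat.of R))} (x : T ⟶ ThetaS.STSch R π) (b : Bool)
    (hx : IsUnit (x.left.appTop (ThetaS.stFn (if b then ThetaS.sFn R π else ThetaS.tFn R π)))) :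
    IsUnit (fn (at' x) (if b then ThetaS.sFn R π else ThetaS.tFn R π)) := by
  set q := (if b then ThetaS.sFn R π else ThetaS.tFn R π) with hq
  let P := ThetaS.Gm R ⊗ T
  refine RingedSpace.isUnit_of_isUnit_germ P.left.toLocallyRingedSpace.toRingedSpace ⊤ _ fun w _ => ?_
  rw [← Scheme.mem_basicOpen_top]
  let K := P.left.residueField w
  let jK : Spec K ⟶ P.left := P.left.fromSpecResidueField w
  let κ : R →+* K := (Spec.preimage (jK ≫ P.hom)).hom
  letI : Algebra R K := κ.toAlgebra
  let j : CoactBr.sp R K ⟶ P := Over.homMk jK (by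
    show jK ≫ P.hom = Spec.map (CommRingCat.ofHom (algebraMap R K))
    exact (Spec.map_preimage (jK ≫ P.hom)).symm)
  have hpt : ∀ {B : Type u} [CommRing B] [Algebra R B] (p : CoactBr.sp R K ⟶ CoactBr.sp R B),
      ∃ φ : B →ₐ[R] K, CoactBr.pt φ = p := by
    intro B _ _ p
    let ψ := Spec.preimage p.left
    have hψ : Spec.map ψ = p.left := Spec.map_preimage _
    refine ⟨⟨ψ.hom, fun r => ?_⟩, Over.OverMorphism.ext hψ⟩
    have e : CommRingCat.ofHom (algebraMap R B) ≫ ψ = CommRingCat.ofHom (algebraMap R K) :=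
      Spec.map_injective (by rw [Spec.map_comp, hψ]; exact Over.w p)
    exact ConcreteCategory.congr_hom e r
  obtain ⟨lam, hlam⟩ := hpt (j ≫ fst (ThetaS.Gm R) T : CoactBr.sp R K ⟶ CoactBr.sp R (ThetaS.Lau R))
  obtain ⟨v, hv⟩ := hpt (j ≫ snd (ThetaS.Gm R) T ≫ x : CoactBr.sp R K ⟶ CoactBr.sp R (ThetaS.STRing R π))
  have hv' : ThetaS.stPt (v (ThetaS.sFn R π)) (v (ThetaS.tFn R π))
      (by rw [← map_mul, ThetaS.sFn_mul_tFn, AlgHom.commutes]) = v :=
    ThetaS.stRing_algHom_ext (ThetaS.stPt_sFn _ _ _) (ThetaS.stPt_tFn _ _ _)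
  have hfn : ∀ (ψ : ThetaS.STRing R π →ₐ[R] K) (c : ThetaS.STRing R π),
      (Scheme.ΓSpecIso K).hom ((CoactBr.pt ψ).left.appTop (ThetaS.stFn c)) = ψ c := by
    intro ψ c
    have e := congrArg (fun t => (ConcreteCategory.hom t) c)
      (Scheme.ΓSpecIso_inv_naturality (CommRingCat.ofHom ψ.toRingHom))
    refine (congrArg (Scheme.ΓSpecIso K).hom e.symm).trans ?_
    show ((Scheme.ΓSpecIso K).inv ≫ (Scheme.ΓSpecIso K).hom) (ψ c) = _
    rw [Iso.inv_hom_id]
    rfl
  have hvq : v q ≠ 0 := by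
    intro h0
    have h1 : IsUnit ((Scheme.ΓSpecIso K).hom ((j ≫ snd (ThetaS.Gm R) T ≫ x).left.appTop (ThetaS.stFn q))) := by
      rw [Over.comp_left, Over.comp_left, appTop_comp, appTop_comp]
      exact ((hx.map _).map _).map _
    rw [← hv, hfn, h0] at h1
    exact not_isUnit_zero h1
  have hact : (j ≫ (at' x).φ) = lift (CoactBr.pt lam) (CoactBr.pt v) ≫ (ThetaS.stAction R π).act := by
    show j ≫ (ThetaS.Gm R ◁ x) ≫ (ThetaS.stAction R π).act = _
    rw [← Category.assoc]
    congr 1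
    apply CartesianMonoidalCategory.hom_ext
    · rw [Category.assoc, whiskerLeft_fst, lift_fst, hlam]
    · rw [Category.assoc, whiskerLeft_snd, lift_snd, hv]
  rw [← hv', ThetaS.stAction_pt] at hact
  have hne : (Scheme.ΓSpecIso K).hom (jK.appTop (fn (at' x) q)) ≠ 0 := by
    intro e0
    have e1 : (Scheme.ΓSpecIso K).hom ((j ≫ (at' x).φ).left.appTop (ThetaS.stFn q)) = 0 := by
      rw [Over.comp_left, appTop_comp]
      exact e0
    rw [hact, hfn] at e1
    revert e1
    have hz : ∀ n : ℤ, lam (ThetaS.zPow R n) ≠ 0 := fun n h0 => by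
      have := congrArg lam (ThetaS.zPow_mul R n (-n))
      rw [map_mul, h0, zero_mul, add_neg_cancel, ThetaS.zPow_zero, map_one] at this
      exact zero_ne_one this
    cases b
    · simp only [hq, Bool.false_eq_true, if_false, ThetaS.stPt_tFn] at hvq ⊢
      exact mul_ne_zero (hz _) hvq
    · simp only [hq, if_true, ThetaS.stPt_sFn] at hvq ⊢
      exact mul_ne_zero (hz _) hvq
  by_contra hw
  apply hne
  have hb : jK ⁻¹ᵁ P.left.basicOpen (fn (at' x) q) = ⊥ := by
    ext y
    simp only [SetLike.mem_coe, Scheme.Hom.mem_preimage]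
    show jK y ∈ _ ↔ y ∈ (⊥ : (Spec K).Opens)
    rw [Scheme.fromSpecResidueField_apply]
    exact iff_of_false hw (by simp)
  rw [Scheme.preimage_basicOpen_top, basicOpen_eq_bot_iff] at hb
  rw [hb, map_zero]

theorem missesNode_at {T : Over (Spec (CommRingCat.of R))} (x : T ⟶ ThetaS.STSch R π) (b : Bool)
    (hx : IsUnit (x.left.appTop (ThetaS.stFn (if b then ThetaS.sFn R π else ThetaS.tFn R π)))) :
    ThetaS.MissesNode (at' x) ∧
      (IsUnit (fn (at' x) (ThetaS.sFn R π)) ∨ IsUnit (fn (at' x) (ThetaS.tFn R π))) := by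
  have h1 := fn_at_of_isUnit x b hx
  cases b
  · exact ⟨(congrArg₂ (· ⊔ ·) rfl (Scheme.basicOpen_of_isUnit _ h1)).trans (sup_top_eq _), Or.inr h1⟩
  · exact ⟨(congrArg₂ (· ⊔ ·) (Scheme.basicOpen_of_isUnit _ h1) rfl).trans (top_sup_eq _), Or.inl h1⟩

theorem missesNode_of_hom {A' A : (ThetaS.STR K₀ R π).obj} (n : A' ⟶ A) (hA : ThetaS.MissesNode A) :
    ThetaS.MissesNode A' := by
  show A'.P.left.basicOpen (fn A' (ThetaS.sFn R π)) ⊔ A'.P.left.basicOpen (fn A' (ThetaS.tFn R π)) = ⊤
  rw [fn_map n, fn_map n]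
  refine (congrArg₂ (· ⊔ ·) (Scheme.preimage_basicOpen_top n.top.left _).symm
    (Scheme.preimage_basicOpen_top n.top.left _).symm).trans ?_
  exact (Scheme.Hom.preimage_sup n.top.left).symm.trans ((congrArg (n.top.left ⁻¹ᵁ ·) hA).trans n.top.left.preimage_top)

instance : IsAffineHom (ThetaS.Gm R).hom := by
  have : IsAffine (ThetaS.Gm R).left :=
    inferInstanceAs (IsAffine (Spec (CommRingCat.of (MonoidAlgebra R (Multiplicative ℤ)))))
  exact isAffineHom_of_isAffine _

instance : Flat (ThetaS.Gm R).hom := by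
  show Flat (Spec.map (CommRingCat.ofHom (algebraMap R (MonoidAlgebra R (Multiplicative ℤ)))))
  rw [HasRingHomProperty.Spec_iff (P := @Flat)]
  exact RingHom.flat_algebraMap_iff.2 inferInstance

instance : LocallyOfFinitePresentation (ThetaS.Gm R).hom := by
  show LocallyOfFinitePresentation (Spec.map (CommRingCat.ofHom (algebraMap R (MonoidAlgebra R (Multiplicative ℤ)))))
  rw [HasRingHomProperty.Spec_iff (P := @LocallyOfFinitePresentation)]
  have h0 : Algebra.FinitePresentation R (LaurentPolynomial R) :=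
    haveI : IsScalarTower R (Polynomial R) (LaurentPolynomial R) :=
      IsScalarTower.of_algebraMap_eq fun r => (Polynomial.toLaurent_C r).symm
    haveI := IsLocalization.Away.finitePresentation (S := LaurentPolynomial R) (Polynomial.X : Polynomial R)
    Algebra.FinitePresentation.trans R (Polynomial R) (LaurentPolynomial R)
  exact RingHom.finitePresentation_algebraMap.2
    (Algebra.FinitePresentation.equiv (AddMonoidAlgebra.toMultiplicativeAlgEquiv R R ℤ))

theorem isFibGrpd_ST : FibCat.IsFibGrpd (ThetaS.ST K₀ R π h).p := by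
  have h1 : FibCat.IsFibGrpd (ThetaS.STR K₀ R π).p := (ArtinBoot49.isStack_quotSt).1
  have h2 : FibCat.IsFibGrpd (Over.map h) :=
    FibBase.isFibGrpd_of_comp (FibBase.isFibSet_overForget S)
      (show FibCat.IsFibGrpd (Over.forget (Spec (CommRingCat.of R))) from
        (FibBase.isFibSet_overForget (Spec (CommRingCat.of R))).1)
  exact FibBase.isFibGrpd_comp h1 h2

theorem isFibGrpd_stPunc : FibCat.IsFibGrpd (ThetaS.stPunc K₀ R π h).p :=
  AlgStLib.isFibGrpd_fullSub (isFibGrpd_ST h) fun _ _ n hA => missesNode_of_hom n hA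

theorem mem_J_map {A : Over (Spec (CommRingCat.of R))} {κ : Type u} (V : κ → Over (Spec (CommRingCat.of R)))
    (v : ∀ i, V i ⟶ A) (hf : ∀ i, Flat (v i).left) (hp : ∀ i, LocallyOfFinitePresentation (v i).left)
    (hs : ∀ a : A.left, ∃ i, a ∈ Set.range (v i).left) (Rs : Sieve ((Over.map h).obj A))
    (hR : ∀ i, Rs ((Over.map h).map (v i))) : Rs ∈ AlgSp.J S ((Over.map h).obj A) := by
  let W : Over S := Over.mk (Sigma.desc (fun i => (v i).left) ≫ A.hom ≫ h)
  let w : W ⟶ (Over.map h).obj A := Over.homMk (Sigma.desc fun i => (v i).left) rfl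
  let P : Presieve ((Over.map h).obj A) := fun Y f => ∃ i, ∃ e : Y = (Over.map h).obj (V i), f = eqToHom e ≫ (Over.map h).map (v i)
  refine GrothendieckTopology.superset_covering _ (S := Sieve.generate P) ?_ ?_
  · rintro Y f ⟨Z, g, k, ⟨i, rfl, rfl⟩, rfl⟩
    simp only [eqToHom_refl, Category.id_comp]
    exact Rs.downward_closed (hR i) g
  · rw [GrothendieckTopology.mem_over_iff]
    have hm : Presieve.ofArrows (fun i => (V i).left) (fun i => (v i).left) ∈ Scheme.fppfPrecoverage A.left := by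
      rw [Scheme.fppfPrecoverage, Scheme.ofArrows_mem_precoverage_iff]
      exact ⟨hs, fun i => ⟨hf i, hp i⟩⟩
    refine GrothendieckTopology.superset_covering _ ?_ (Precoverage.generate_mem_toGrothendieck hm)
    rintro Z _ ⟨Y, a, f', ⟨i⟩, rfl⟩
    rw [Sieve.overEquiv_iff]
    exact ⟨(Over.map h).obj (V i), Over.homMk a (by simp), (Over.map h).map (v i), ⟨i, rfl, by simp⟩, by ext; simp⟩

theorem half_of_hom {A' A : (ThetaS.stPunc K₀ R π h).obj} (n : A' ⟶ A) (hA : Half h A) : Half h A' := by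
  rcases hA with hA | hA
  · exact Or.inl (by rw [fn_map n.hom]; exact hA.map _)
  · exact Or.inr (by rw [fn_map n.hom]; exact hA.map _)

/-- The open locus in a torsor. -/
noncomputable abbrev locus (A : (ThetaS.STR K₀ R π).obj) (i : ULift.{u} Bool) : A.P.left.Opens :=
  A.P.left.basicOpen (fn A (if i.down then ThetaS.sFn R π else ThetaS.tFn R π))

theorem half_dense : Ext49.Dense (AlgSp.J S) (Half (π := π) h) := fun A => by
  let Rs : Sieve ((Over.map h).obj A.obj.base) :=
    { arrows := fun V f => ∃ (w : (ThetaS.stPunc K₀ R π h).obj) (a : w ⟶ A),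
          (ThetaS.stPunc K₀ R π h).p.IsHomLift f a ∧ Half h w
      downward_closed := by
        rintro V W f ⟨w, a, ha, hw⟩ g
        obtain ⟨w', m, hm⟩ := FibBase.exists_lift_of_eq (isFibGrpd_stPunc h)
          (IsHomLift.domain_eq (ThetaS.stPunc K₀ R π h).p f a) g
        exact ⟨w', m ≫ a, inferInstance, half_of_hom h m hw⟩ }
  refine ⟨Rs, ?_, fun V f hf => hf⟩
  let B := A.obj
  let V : ULift.{u} Bool → Over (Spec (CommRingCat.of R)) := fun i => Over.mk ((locus B i).ι ≫ B.P.hom)
  let j : ∀ i, V i ⟶ B.P := fun i => Over.homMk (locus B i).ι rfl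
  obtain ⟨⟨h1, h2⟩, h3⟩ := fppf_π B
  have := h1; have := h2; have := h3
  refine mem_J_map h V (fun i => j i ≫ B.π) (fun i => ?_) (fun i => ?_) (fun a => ?_) _ fun i => ?_
  · rw [Over.comp_left]; exact inferInstanceAs (Flat ((locus B i).ι ≫ B.π.left))
  · rw [Over.comp_left]; exact inferInstanceAs (LocallyOfFinitePresentation ((locus B i).ι ≫ B.π.left))
  · obtain ⟨p, rfl⟩ := B.π.left.surjective a
    have hp : p ∈ B.P.left.basicOpen (fn B (ThetaS.sFn R π)) ⊔ B.P.left.basicOpen (fn B (ThetaS.tFn R π)) := by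
      rw [show _ ⊔ _ = (⊤ : B.P.left.Opens) from A.property]; trivial
    rcases hp with hp | hp
    · exact ⟨⟨true⟩, ⟨p, hp⟩, rfl⟩
    · exact ⟨⟨false⟩, ⟨p, hp⟩, rfl⟩
  · have hx : IsUnit ((j i ≫ B.φ).left.appTop
        (ThetaS.stFn (if i.down then ThetaS.sFn R π else ThetaS.tFn R π))) := by
      rw [Over.comp_left, appTop_comp]
      show IsUnit ((locus B i).ι.appTop (fn B _))
      refine RingedSpace.isUnit_of_isUnit_germ (locus B i : Scheme.{u}).toLocallyRingedSpace.toRingedSpace ⊤ _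
        fun y _ => ?_
      rw [← Scheme.mem_basicOpen_top, ← Scheme.preimage_basicOpen_top]
      exact y.2
    obtain ⟨hm, hh⟩ := missesNode_at (j i ≫ B.φ) i.down hx
    refine ⟨⟨at' (j i ≫ B.φ), hm⟩, ObjectProperty.homMk (trivHom B (j i) _ rfl), ?_, hh⟩
    exact IsHomLift.map (ThetaS.stPunc K₀ R π h).p (ObjectProperty.homMk (trivHom B (j i) _ rfl) :
      (⟨at' (j i ≫ B.φ), hm⟩ : (ThetaS.stPunc K₀ R π h).obj) ⟶ A)

instance : IsAffineHom (Red.Ga S).hom := by
  have : IsAffine Red.GaZ.{u}.left :=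
    inferInstanceAs (IsAffine (Spec (CommRingCat.of (SymmetricAlgebra (ULift.{u} ℤ) (ULift.{u} ℤ)))))
  have : IsAffineHom Red.GaZ.{u}.hom := isAffineHom_of_isAffine _
  exact MorphismProperty.pullback_snd (P := @IsAffineHom) _ _ ‹_›

/-- The torsor exists. -/
theorem exists_phi : ∃ (φ : ThetaS.stPunc K₀ R π h ⥤ᵇ AlgSt.BG K₀ (Red.Ga S))
    (θ : ∀ w : (Ext49.sub (Half (π := π) h)).obj, φ.obj w.obj ≅ (psi h).obj w),
    ∀ (w' w : (Ext49.sub (Half (π := π) h)).obj) (n : w' ⟶ w),
      φ.map n.hom ≫ (θ w).hom = (θ w').hom ≫ (psi h).map n := by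
  obtain ⟨φ, θ, -, hθ⟩ := Ext49.exists_extension (isFibGrpd_stPunc h)
    (ArtinBoot49.isStack_quotSt (G := Red.Ga S) (aX := AlgSt.trivAction (Red.Ga S)))
    (fun {_ _} n hA => half_of_hom h n hA) (half_dense h) (psi h)
  exact ⟨φ, θ, hθ⟩

end Groth.Agent.ST49
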